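import Cfsg.Agent.Lib.KnownB.J2Mult.Data

/-! Checks of the certificates for the multiplier of `2·J₂`. -/

set_option autoImplicit false
set_option maxRecDepth 100000
set_option Elab.async false
set_option maxHeartbeats 2000000

namespace CfsgLib.KnownB.J2Mult

open CfsgLib.KnownB.Mult

theorem cert5_valid : cert5.Valid (code words5) 5 where
  gen := by decide +kernel
  rel := by decide +kernel
  pc := by decide +kernel
  indep := by decide +kernel
  rows := by decide +kernel
  target := by decide +kernel

theorem cert3_valid : cert3.Valid (code words3) 3 where
  gen := by decide +kernel
  rel := by decide +kernel
  pc := by decide +kernel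
  indep := by decide +kernel
  rows := by decide +kernel
  target := by decide +kernel

theorem cert2_valid : cert2.Valid (code words2) 2 where
  gen := by decide +kernel
  rel := by decide +kernel
  pc := by decide +kernel
  indep := by decide +kernel
  rows := by decide +kernel
  target := by decide +kernel

theorem negWord_check : eqT (evT negWord) negT = true := by decide +kernel

theorem commPair_check :
    eqT (mulT (evT commPair.1) (evT commPair.2))
      (mulT negT (mulT (evT commPair.2) (evT commPair.1))) = true := by decide +kernel

end CfsgLib.KnownB.J2Mult
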