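import Cfsg.Agent.Lib.Spor.J2.Order
import Cfsg.Agent.Lib.KnownB.Mult.Main

/-!
Codes for the elements of `2·J₂`: the images of the three coordinate vectors in the integral model.
-/

set_option autoImplicit false
set_option maxRecDepth 100000

namespace CfsgLib.KnownB.J2Mult

open CfsgLib.J2 Cfsg.Spor Quaternion

/-- images of the three coordinate vectors -/
structure Tri where
  a : V
  b : V
  c : V
deriving DecidableEq

/-- a coordinate of twice the image -/
def dbl (v : V) (p q r : Q) : Q := ((Q.mul v.x p).add (Q.mul v.y q)).add (Q.mul v.z r)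

/-- the image of a vector -/
def app (t : Tri) (v : V) : V :=
  ⟨Q.half (dbl v t.a.x t.b.x t.c.x), Q.half (dbl v t.a.y t.b.y t.c.y),
    Q.half (dbl v t.a.z t.b.z t.c.z)⟩

/-- composition -/
def mulT (s t : Tri) : Tri := ⟨app s t.a, app s t.b, app s t.c⟩

/-- identity -/
def oneT : Tri := ⟨⟨Q.two, Q.zero, Q.zero⟩, ⟨Q.zero, Q.two, Q.zero⟩, ⟨Q.zero, Q.zero, Q.two⟩⟩

/-- the sign -/
def negT : Tri :=
  ⟨⟨Q.two.neg, Q.zero, Q.zero⟩, ⟨Q.zero, Q.two.neg, Q.zero⟩, ⟨Q.zero, Q.zero, Q.two.neg⟩⟩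

/-- equality -/
def eqT (s t : Tri) : Bool := decide (s = t)

/-- a generator -/
def genT (k : ℕ) : Tri :=
  if h : k < 4 then
    let r := line (genLine ⟨k, h⟩)
    ⟨V.refl r (line 0), V.refl r (line 1), V.refl r (line 2)⟩
  else oneT

/-- a word in the generators -/
def evT : List ℕ → Tri
  | [] => oneT
  | k :: w => mulT (genT k) (evT w)

/-- `g` has the code `t` -/
def RepT (g : twoJ2) (t : Tri) : Prop :=
  ((g : Equiv.Perm icoLeech) (linePt 0)).1 = t.a.val ∧
    ((g : Equiv.Perm icoLeech) (linePt 1)).1 = t.b.val ∧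
    ((g : Equiv.Perm icoLeech) (linePt 2)).1 = t.c.val

theorem linePt_val : (linePt 0).1 = ![(2 : ℍ[ℝ]), 0, 0] ∧ (linePt 1).1 = ![(0 : ℍ[ℝ]), 2, 0] ∧
    (linePt 2).1 = ![(0 : ℍ[ℝ]), 0, 2] := by
  obtain ⟨b0, b1, b2, -⟩ := base_lines
  refine ⟨?_, ?_, ?_⟩ <;> show (line _).val = _
  · rw [b0]; simp [V.val]
  · rw [b1]; simp [V.val]
  · rw [b2]; simp [V.val]

theorem twice_image (g : twoJ2) (v : icoLeech) (t : Fin 3) :
    ((g : Equiv.Perm icoLeech) v).1 t + ((g : Equiv.Perm icoLeech) v).1 t =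
      v.1 0 * ((g : Equiv.Perm icoLeech) (linePt 0)).1 t +
        v.1 1 * ((g : Equiv.Perm icoLeech) (linePt 1)).1 t +
        v.1 2 * ((g : Equiv.Perm icoLeech) (linePt 2)).1 t := by
  have hg := isIco_of_mem g.2
  have hzero : (fun _ => (0 : ℍ[ℝ])) ∈ icoLeech :=
    ⟨fun _ => zero_mem _, ⟨0, zero_mem _, by simp⟩, ⟨0, zero_mem _, by simp⟩, ⟨0, zero_mem _, by simp⟩⟩
  have hz0 : ((g : Equiv.Perm icoLeech) ⟨_, hzero⟩).1 = fun _ => 0 := by
    have := hg.linear ⟨_, hzero⟩ ⟨_, hzero⟩ 1 (one_mem _)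
    simp only [one_mul, add_zero] at this
    funext s
    have := congrFun this s
    simpa using this
  have hI := v.2.1
  have m1 := icoLeech_smul_add hzero (linePt 0).2 (hI 0)
  have m2 := icoLeech_smul_add m1 (linePt 1).2 (hI 1)
  have m3 := icoLeech_smul_add m2 (linePt 2).2 (hI 2)
  have two : (⟨_, m3⟩ : icoLeech) = ⟨_, icoLeech_smul_add v.2 v.2 (one_mem _)⟩ := by
    obtain ⟨l0, l1, l2⟩ := linePt_val
    refine Subtype.ext (funext fun s => ?_)
    fin_cases s <;> simp [l0, l1, l2, mul_two]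
  have key := congrArg (fun x => ((g : Equiv.Perm icoLeech) x).1) two
  rw [hg.linear ⟨_, m2⟩ (linePt 2) _ (hI 2), hg.linear ⟨_, m1⟩ (linePt 1) _ (hI 1),
    hg.linear ⟨_, hzero⟩ (linePt 0) _ (hI 0), hg.linear v v 1 (one_mem _), hz0] at key
  have := congrFun key t
  simp only [one_mul, zero_add] at this
  exact this.symm

theorem half_add_self (x : Q) : Q.half (x.add x) = x := by
  obtain ⟨a0, b0, a1, b1, a2, b2, a3, b3⟩ := x
  simp only [Q.half, Q.add, Q.mk.injEq]
  omega

theorem ok_of_image {g : twoJ2} {v : icoLeech} {w : V}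
    (h : ((g : Equiv.Perm icoLeech) v).1 = w.val) : w.ok = true :=
  ok_iff.2 (h ▸ ((g : Equiv.Perm icoLeech) v).2)

theorem app_spec {g : twoJ2} {t : Tri} (hg : RepT g t) (v : icoLeech) {w : V} (hw : w.val = v.1) :
    ((g : Equiv.Perm icoLeech) v).1 = (app t w).val := by
  obtain ⟨wx, wy, wz⟩ := ok_good (ok_iff.2 (hw.symm ▸ v.2) : w.ok = true)
  obtain ⟨ax, ay, az⟩ := ok_good (ok_of_image hg.1)
  obtain ⟨bx, by', bz⟩ := ok_good (ok_of_image hg.2.1)
  obtain ⟨cx, cy, cz⟩ := ok_good (ok_of_image hg.2.2)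
  obtain ⟨r, -, er⟩ := exists_model ((g : Equiv.Perm icoLeech) v).2
  have h2 : ∀ s : Fin 3, r.val s + r.val s =
      w.val 0 * t.a.val s + w.val 1 * t.b.val s + w.val 2 * t.c.val s := fun s => by
    rw [er, hw, twice_image, hg.1, hg.2.1, hg.2.2]
  have key : ∀ {a p q u : Q}, p.good = true → q.good = true → u.good = true →
      a.val + a.val = w.x.val * p.val + w.y.val * q.val + w.z.val * u.val →
      Q.half (dbl w p q u) = a := by
    intro a p q u hp hq hu e
    have : dbl w p q u = a.add a := CfsgLib.J2.val_injective (by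
      rw [dbl, val_add, val_add, (good_mul wx hp).1, (good_mul wy hq).1, (good_mul wz hu).1, val_add, e])
    rw [this, half_add_self]
  rw [← er]
  have hx := key ax bx cx (a := r.x) (by simpa [V.val] using h2 0)
  have hy := key ay by' cy (a := r.y) (by simpa [V.val] using h2 1)
  have hz := key az bz cz (a := r.z) (by simpa [V.val] using h2 2)
  simp only [app, hx, hy, hz]

theorem RepT.mul {g h : twoJ2} {s t : Tri} (hg : RepT g s) (hh : RepT h t) :
    RepT (g * h) (mulT s t) :=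
  ⟨app_spec hg _ hh.1.symm, app_spec hg _ hh.2.1.symm, app_spec hg _ hh.2.2.symm⟩

theorem repT_one : RepT 1 oneT := by
  obtain ⟨l0, l1, l2⟩ := linePt_val
  exact ⟨l0.trans (by simp [oneT, V.val]), l1.trans (by simp [oneT, V.val]),
    l2.trans (by simp [oneT, V.val])⟩

theorem repT_negOne : RepT ⟨negOne, negOne_mem⟩ negT := by
  obtain ⟨l0, l1, l2⟩ := linePt_val
  refine ⟨?_, ?_, ?_⟩ <;> show (negOne _).1 = _ <;> rw [negOne_apply] <;> funext s <;>
    fin_cases s <;> simp [l0, l1, l2, negT, V.val]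

theorem eqT_iff {g h : twoJ2} {s t : Tri} (hg : RepT g s) (hh : RepT h t) :
    eqT s t = true ↔ g = h := by
  rw [eqT, decide_eq_true_iff]
  constructor
  · rintro rfl
    refine Subtype.ext (Equiv.ext fun v => Subtype.ext ?_)
    obtain ⟨w, -, hw⟩ := exists_model v.2
    rw [app_spec hg v hw, app_spec hh v hw]
  · rintro rfl
    obtain ⟨a, b, c⟩ := s
    obtain ⟨a', b', c'⟩ := t
    obtain rfl : a = a' := V.val_injective (hg.1.symm.trans hh.1)
    obtain rfl : b = b' := V.val_injective (hg.2.1.symm.trans hh.2.1)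
    obtain rfl : c = c' := V.val_injective (hg.2.2.symm.trans hh.2.2)
    rfl

theorem repT_gen {k : ℕ} (hk : k < 4) : RepT (gen ⟨k, hk⟩) (genT k) := by
  simp only [genT, dif_pos hk]
  exact ⟨(refl_val (line_ok _).1 (line_ok 0).1).2.symm, (refl_val (line_ok _).1 (line_ok 1).1).2.symm,
    (refl_val (line_ok _).1 (line_ok 2).1).2.symm⟩

theorem exists_evT : ∀ w : List ℕ, ∃ g : twoJ2, RepT g (evT w)
  | [] => ⟨1, repT_one⟩
  | k :: w => by
    obtain ⟨g, hg⟩ := exists_evT w
    by_cases hk : k < 4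
    · exact ⟨_, (repT_gen hk).mul hg⟩
    · refine ⟨1 * g, ?_⟩
      have e : genT k = oneT := dif_neg hk
      show RepT (1 * g) (mulT (genT k) (evT w))
      rw [e]
      exact repT_one.mul hg

/-- the codes, with the membership test given by a list of words -/
def code (ws : List (List ℕ)) : Mult.Code twoJ2 Tri where
  rep := RepT
  mul := mulT
  one := oneT
  eqc := eqT
  okc x := ws.any fun w => eqT (evT w) x
  rep_mul := RepT.mul
  rep_one := repT_one
  eq_iff := eqT_iff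
  exists_rep h := by
    obtain ⟨w, -, hw⟩ := List.any_eq_true.1 h
    obtain ⟨g, hg⟩ := exists_evT w
    exact ⟨g, of_decide_eq_true hw ▸ hg⟩

end CfsgLib.KnownB.J2Mult
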