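import Cfsg.Agent.Lib.KnownB.J2Mult.Code

/-! Generated certificates for the multiplier of `2·J₂`. -/

set_option autoImplicit false
set_option maxRecDepth 100000

namespace CfsgLib.KnownB.J2Mult

open CfsgLib.KnownB.Mult

/-- a word for the sign -/
def negWord : List ℕ := [0, 3, 0, 2, 0, 1, 3, 2, 1, 0, 3, 0, 2, 0, 1, 3, 2, 1]

/-- two words whose commutator is the sign -/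
def commPair : List ℕ × List ℕ := ([3, 1, 0, 2, 0, 3, 0, 1, 2], [2, 0, 3, 0, 1, 2, 1, 3, 1, 0])

/-- words for the elements of the certificate at `2` -/
def words2 : List (List ℕ) := [
  [2, 0, 2, 0, 3, 1, 2, 1, 3, 0, 2, 0, 2],
  [2, 0, 3, 2, 0, 2, 0, 1, 2, 3, 2, 0, 2, 1, 3, 0, 0, 3, 0, 2, 0, 1, 3, 2, 1, 0, 3, 0, 2, 0, 1, 3, 2, 1],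
  [2, 0, 2, 0, 3, 1, 2, 1, 3, 0, 1, 2, 0, 2],
  [1, 0, 3, 0, 2, 0, 1, 3, 2, 1, 0, 3, 0, 2, 0, 1, 3, 2, 1],
  [3, 2, 1, 0, 2, 0, 1, 2, 3],
  [3, 1, 0, 2, 0, 3, 0, 1, 2],
  [2, 0, 3, 0, 1, 2, 1, 3, 1, 0],
  [0, 3, 0, 2, 0, 1, 3, 2, 1, 0, 3, 0, 2, 0, 1, 3, 2, 1],
  [2, 1, 3, 0, 2, 3, 2, 1, 0],
  [3, 1, 2, 3, 1, 2, 1]]

/-- a conjugator at `2` -/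
def conj2_0 : Tri :=
    ⟨⟨⟨1, 0, 1, 0, 1, -2, 1, 0⟩, ⟨0, 0, 0, 0, 0, 0, 0, 0⟩, ⟨1, -2, 1, 0, -1, 0, -1, 0⟩⟩,
      ⟨⟨-2, 0, 0, 0, 0, 0, 0, 0⟩, ⟨1, 0, -1, 2, 1, 0, 1, 0⟩, ⟨0, 0, 0, 0, -2, 0, 0, 0⟩⟩,
      ⟨⟨0, 0, 2, 0, 0, 0, 0, 0⟩, ⟨1, -2, 1, 0, -1, 0, 1, 0⟩, ⟨0, 0, 0, 0, 0, 0, 2, 0⟩⟩⟩

/-- a conjugator at `2` -/
def conj2_1 : Tri :=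
    ⟨⟨⟨-1, 1, 0, 0, -1, 2, 0, -1⟩, ⟨-1, 1, 0, 0, -1, 0, 0, 1⟩, ⟨0, 1, 1, 0, 0, 0, 1, -1⟩⟩,
      ⟨⟨0, 0, -1, 1, 0, -1, -1, 0⟩, ⟨0, 0, 1, -1, -2, 1, -1, 0⟩, ⟨1, 0, 0, 1, 1, 1, 0, 0⟩⟩,
      ⟨⟨0, 1, -1, 0, 0, 0, 1, -1⟩, ⟨0, 1, 1, 0, 0, 0, -1, -1⟩, ⟨-1, 1, 0, 0, -1, 0, -2, 1⟩⟩⟩

/-- certificate at `2` -/
def cert2 : Cert Tri where
  n := 8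
  σ := [⟨⟨⟨2, 0, 0, 0, 0, 0, 0, 0⟩, ⟨-2, 0, 0, 0, 0, 0, 0, 0⟩, ⟨-1, 2, 1, 0, 1, 0, 1, 0⟩⟩,
      ⟨⟨-2, 0, 0, 0, 0, 0, 0, 0⟩, ⟨2, 0, 0, 0, 0, 0, 0, 0⟩, ⟨-1, 2, 1, 0, 1, 0, 1, 0⟩⟩,
      ⟨⟨-1, 2, -1, 0, -1, 0, -1, 0⟩, ⟨-1, 2, -1, 0, -1, 0, -1, 0⟩, ⟨0, 0, 0, 0, 0, 0, 0, 0⟩⟩⟩,
    ⟨⟨⟨1, 0, 1, 0, 1, -2, -1, 0⟩, ⟨2, 0, 0, 0, 0, 0, 0, 0⟩, ⟨0, 0, 0, 0, 2, 0, 0, 0⟩⟩,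
      ⟨⟨0, 0, 0, 0, 0, 0, 0, 0⟩, ⟨1, 0, -1, 0, -1, 2, 1, 0⟩, ⟨-1, 2, 1, 0, -1, 0, 1, 0⟩⟩,
      ⟨⟨-1, 2, -1, 0, 1, 0, -1, 0⟩, ⟨0, 0, 0, 0, -2, 0, 0, 0⟩, ⟨2, 0, 0, 0, 0, 0, 0, 0⟩⟩⟩,
    ⟨⟨⟨1, 0, 1, -2, -1, 0, 1, 0⟩, ⟨2, 0, 0, 0, 0, 0, 0, 0⟩, ⟨0, 0, 2, 0, 0, 0, 0, 0⟩⟩,
      ⟨⟨0, 0, 0, 0, 0, 0, 0, 0⟩, ⟨1, 0, -1, 2, 1, 0, -1, 0⟩, ⟨-1, 2, -1, 0, 1, 0, 1, 0⟩⟩,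
      ⟨⟨-1, 2, 1, 0, -1, 0, -1, 0⟩, ⟨0, 0, -2, 0, 0, 0, 0, 0⟩, ⟨2, 0, 0, 0, 0, 0, 0, 0⟩⟩⟩,
    ⟨⟨⟨-2, 0, 0, 0, 0, 0, 0, 0⟩, ⟨2, 0, 0, 0, 0, 0, 0, 0⟩, ⟨-1, 2, 1, 0, 1, 0, 1, 0⟩⟩,
      ⟨⟨2, 0, 0, 0, 0, 0, 0, 0⟩, ⟨-2, 0, 0, 0, 0, 0, 0, 0⟩, ⟨-1, 2, 1, 0, 1, 0, 1, 0⟩⟩,
      ⟨⟨-1, 2, -1, 0, -1, 0, -1, 0⟩, ⟨-1, 2, -1, 0, -1, 0, -1, 0⟩, ⟨0, 0, 0, 0, 0, 0, 0, 0⟩⟩⟩,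
    ⟨⟨⟨0, 0, 0, 0, 0, 0, 0, 0⟩, ⟨1, 0, 1, 0, -1, 0, -1, 2⟩, ⟨-1, 2, 1, 0, 1, 0, -1, 0⟩⟩,
      ⟨⟨1, 0, -1, 0, 1, 0, 1, -2⟩, ⟨2, 0, 0, 0, 0, 0, 0, 0⟩, ⟨0, 0, 0, 0, 0, 0, 2, 0⟩⟩,
      ⟨⟨-1, 2, -1, 0, -1, 0, 1, 0⟩, ⟨0, 0, 0, 0, 0, 0, -2, 0⟩, ⟨2, 0, 0, 0, 0, 0, 0, 0⟩⟩⟩,
    ⟨⟨⟨0, 0, 1, 0, 1, -1, 2, -1⟩, ⟨0, 1, 1, -1, 1, 0, 0, 0⟩, ⟨0, 0, 1, 0, -1, -1, 0, -1⟩⟩,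
      ⟨⟨0, -1, 1, -1, 1, 0, 0, 0⟩, ⟨0, 0, -1, 2, 1, -1, 0, -1⟩, ⟨0, 1, -1, 1, -1, 0, 0, 0⟩⟩,
      ⟨⟨0, 0, 1, 0, -1, -1, 0, -1⟩, ⟨0, -1, -1, 1, -1, 0, 0, 0⟩, ⟨0, 0, 1, 0, 1, -1, 2, -1⟩⟩⟩,
    ⟨⟨⟨0, 0, 0, 0, 0, 2, 0, 0⟩, ⟨-1, 1, -1, 1, 1, -1, -1, 1⟩, ⟨-1, 0, 1, 0, -1, 0, 1, 0⟩⟩,
      ⟨⟨1, -1, -1, 1, 1, -1, -1, 1⟩, ⟨0, 0, 0, 0, 0, 0, -2, 0⟩, ⟨0, -1, 0, 1, 0, 1, 0, 1⟩⟩,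
      ⟨⟨1, 0, 1, 0, -1, 0, 1, 0⟩, ⟨0, 1, 0, 1, 0, 1, 0, 1⟩, ⟨0, 0, -2, 2, 0, 0, 0, 0⟩⟩⟩,
    ⟨⟨⟨-4, 0, 0, 0, 0, 0, 0, 0⟩, ⟨0, 0, 0, 0, 0, 0, 0, 0⟩, ⟨0, 0, 0, 0, 0, 0, 0, 0⟩⟩,
      ⟨⟨0, 0, 0, 0, 0, 0, 0, 0⟩, ⟨-4, 0, 0, 0, 0, 0, 0, 0⟩, ⟨0, 0, 0, 0, 0, 0, 0, 0⟩⟩,
      ⟨⟨0, 0, 0, 0, 0, 0, 0, 0⟩, ⟨0, 0, 0, 0, 0, 0, 0, 0⟩, ⟨-4, 0, 0, 0, 0, 0, 0, 0⟩⟩⟩]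
  rules := [([0, 0], []),
    ([1, 1], [3]),
    ([2, 2], [3]),
    ([3, 3], []),
    ([4, 4], []),
    ([5, 5], [7]),
    ([6, 6], [7]),
    ([7, 7], []),
    ([1, 0], [0, 1, 3]),
    ([2, 0], [0, 2, 3]),
    ([3, 0], [0, 3]),
    ([4, 0], [0, 3, 4]),
    ([5, 0], [0, 1, 5]),
    ([6, 0], [0, 2, 3, 6]),
    ([7, 0], [0, 7]),
    ([2, 1], [1, 2, 3]),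
    ([3, 1], [1, 3]),
    ([4, 1], [1, 4]),
    ([5, 1], [1, 3, 5]),
    ([6, 1], [1, 3, 4, 6]),
    ([7, 1], [1, 7]),
    ([3, 2], [2, 3]),
    ([4, 2], [2, 4]),
    ([5, 2], [2, 4, 5]),
    ([6, 2], [2, 3, 6]),
    ([7, 2], [2, 7]),
    ([4, 3], [3, 4]),
    ([5, 3], [3, 5]),
    ([6, 3], [3, 6]),
    ([7, 3], [3, 7]),
    ([5, 4], [4, 5]),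
    ([6, 4], [4, 6]),
    ([7, 4], [4, 7]),
    ([6, 5], [5, 6, 7]),
    ([7, 5], [5, 7]),
    ([7, 6], [6, 7])]
  conjs := [(conj2_0, [0], [0, 2, 3]),
    (conj2_0, [1], [2]),
    (conj2_0, [2], [1, 2]),
    (conj2_0, [3], [3]),
    (conj2_0, [4], [4]),
    (conj2_0, [5], [3, 6]),
    (conj2_0, [6], [3, 5, 6, 7]),
    (conj2_0, [7], [7]),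
    (conj2_1, [7], [7]),
    (conj2_1, [0], [0, 2, 3]),
    (conj2_1, [0, 1, 3], [3, 4]),
    (conj2_1, [0, 2], [0, 1, 3]),
    (conj2_1, [3], [3]),
    (conj2_1, [4], [0, 1, 2, 4])]
  rows := [(.ovl [1] 0 [], [0, 0, 0, 1, 0, 0, 0, 0, 0, 0, 1]),
    (.ovl [5] 0 [], [0, 1, 0, 1, 0, 0, 0, 0, 1, 0, 0, 0, 0, 0, 0, 0, 1]),
    (.ovl [6] 0 [], [0, 0, 1, 0, 0, 0, 0, 0, 0, 1, 1, 0, 0, 0]),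
    (.ovl [1] 1 [], [0, 0, 0, 0, 0, 0, 0, 0, 0, 0, 0, 0, 0, 0, 0, 0, 1]),
    (.ovl [2] 1 [], [0, 0, 0, 1, 0, 0, 0, 0, 0, 0, 0, 0, 0, 0, 0, 0, 1, 0, 0, 0, 0, 1]),
    (.ovl [4] 1 [], [0, 0, 0, 0, 0, 0, 0, 0, 0, 0, 0, 0, 0, 0, 0, 0, 0, 0, 0, 0, 0, 0, 0, 0, 0, 0, 1]),
    (.ovl [5] 1 [], [0, 0, 0, 1, 0, 0, 0, 0, 0, 0, 0, 0, 0, 0, 0, 0, 1, 0, 0, 0, 0, 0, 0, 0, 0, 0, 0, 1]),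
    (.ovl [6] 1 [], [0, 0, 0, 1, 1, 0, 0, 0, 0, 0, 0, 0, 0, 0, 0, 0, 1, 1, 0, 0, 0, 0, 0, 0, 0, 0, 1, 0, 1]),
    (.ovl [7] 1 [], [0, 0, 0, 0, 0, 0, 0, 0, 0, 0, 0, 0, 0, 0, 0, 0, 0, 0, 0, 0, 0, 0, 0, 0, 0, 0, 0, 0, 0, 1]),
    (.ovl [2] 2 [], [0, 0, 0, 0, 0, 0, 0, 0, 0, 0, 0, 0, 0, 0, 0, 0, 0, 0, 0, 0, 0, 1]),
    (.ovl [5] 2 [], [0, 0, 0, 0, 1, 0, 0, 0, 0, 0, 0, 0, 0, 0, 0, 0, 0, 0, 0, 0, 0, 0, 1, 0, 0, 0, 0, 1]),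
    (.ovl [6] 2 [], [0, 0, 0, 1, 0, 0, 0, 0, 0, 0, 0, 0, 0, 0, 0, 0, 0, 0, 0, 0, 0, 1, 0, 0, 0, 0, 0, 0, 1]),
    (.ovl [5] 5 [], [0, 0, 0, 0, 0, 0, 0, 0, 0, 0, 0, 0, 0, 0, 0, 0, 0, 0, 0, 0, 0, 0, 0, 0, 0, 0, 0, 0, 0, 0, 0, 0, 0, 0, 1]),
    (.ovl [6] 5 [], [0, 0, 0, 0, 0, 0, 0, 1, 0, 0, 0, 0, 0, 0, 0, 0, 0, 0, 0, 0, 0, 0, 0, 0, 0, 0, 0, 0, 0, 0, 0, 0, 0, 0, 1, 1]),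
    (.ovl [6] 6 [], [0, 0, 0, 0, 0, 0, 0, 0, 0, 0, 0, 0, 0, 0, 0, 0, 0, 0, 0, 0, 0, 0, 0, 0, 0, 0, 0, 0, 0, 0, 0, 0, 0, 0, 0, 1]),
    (.ovl [6] 8 [], [0, 0, 0, 0, 0, 0, 0, 0, 0, 0, 1, 1, 0, 0, 0, 1, 1, 0, 0, 0, 0, 1, 1, 0, 0, 0, 0, 0, 1]),
    (.ovl [5] 11 [], [0, 0, 0, 0, 0, 0, 0, 0, 0, 0, 0, 0, 0, 0, 0, 0, 1, 1, 0, 0, 0, 0, 0, 0, 0, 0, 0, 1, 0, 0, 0]),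
    (.ovl [5] 12 [], [0, 1, 0, 1, 0, 0, 0, 0, 0, 0, 0, 0, 0, 0, 1, 0, 0, 0, 1]),
    (.ovl [6] 12 [], [0, 0, 0, 1, 0, 0, 0, 0, 0, 0, 0, 0, 0, 0, 1, 1, 1, 0, 0, 1, 0, 0, 0, 1, 0, 0, 1, 1, 0, 0, 0, 0, 0, 0]),
    (.ovl [7] 12 [], [0, 0, 0, 0, 0, 0, 0, 0, 0, 0, 0, 0, 0, 0, 0, 0, 0, 0, 0, 0, 1, 0, 0, 0, 0, 0, 0, 0, 0, 0, 0, 0, 0, 0, 0]),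
    (.ovl [6] 13 [], [0, 0, 1, 0, 0, 0, 0, 0, 0, 0, 0, 0, 0, 0, 1, 0, 0, 0, 0, 0, 0, 1, 0, 0, 1, 0, 0, 0, 1]),
    (.ovl [7] 13 [], [0, 0, 0, 0, 0, 0, 0, 0, 0, 0, 0, 0, 0, 0, 0, 0, 0, 0, 0, 0, 0, 0, 0, 0, 0, 1, 0, 0, 0, 1, 0, 0, 0, 0, 0, 0]),
    (.ovl [6] 18 [], [0, 0, 0, 0, 0, 0, 0, 0, 0, 0, 0, 0, 0, 0, 0, 0, 0, 0, 0, 0, 1, 0, 0, 0, 0, 0, 1, 1, 1, 0, 1, 0, 0, 0]),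
    (.ovl [6] 19 [], [0, 0, 0, 1, 1, 0, 0, 0, 0, 0, 0, 0, 0, 0, 0, 0, 0, 0, 0, 0, 1, 0, 0, 0, 0, 0, 1, 0, 1, 0, 0, 1]),
    (.ovl [7] 19 [], [0, 0, 0, 0, 0, 0, 0, 0, 0, 0, 0, 0, 0, 0, 0, 0, 0, 0, 0, 0, 0, 0, 0, 0, 0, 0, 0, 0, 0, 1, 0, 0, 1, 0, 0, 0]),
    (.cnj 0 [1, 1] [3], [0, 1, 1, 0, 0, 0, 0, 0, 0, 0, 0, 0, 0, 0, 0, 0, 0, 0, 0, 0, 0, 0, 0, 0, 0, 0, 0, 0, 0, 0, 0, 0, 0, 0, 0, 0, 0, 0, 0, 1]),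
    (.cnj 0 [2, 2] [3], [0, 1, 0, 1, 0, 0, 0, 0, 0, 0, 0, 0, 0, 0, 0, 1, 0, 0, 0, 0, 0, 1, 0, 0, 0, 0, 0, 0, 0, 0, 0, 0, 0, 0, 0, 0, 0, 0, 0, 1]),
    (.cnj 0 [5, 5] [7], [0, 0, 0, 1, 0, 1, 1, 0, 0, 0, 0, 0, 0, 0, 0, 0, 0, 0, 0, 0, 0, 0, 0, 0, 0, 0, 0, 0, 1, 0, 0, 0, 0, 0, 0, 0, 0, 0, 0, 0, 0, 0, 0, 1]),
    (.cnj 0 [6, 6] [7], [0, 0, 0, 1, 0, 1, 0, 0, 0, 0, 0, 0, 0, 0, 0, 0, 0, 0, 0, 0, 0, 0, 0, 0, 0, 0, 0, 1, 1, 1, 0, 0, 0, 1, 1, 0, 0, 0, 0, 0, 0, 0, 0, 1]),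
    (.cnj 0 [4, 0] [0, 3, 4], [0, 0, 0, 0, 0, 0, 0, 0, 0, 0, 0, 0, 0, 0, 0, 0, 0, 0, 0, 0, 0, 1, 1, 0, 0, 0, 1, 0, 0, 0, 0, 0, 0, 0, 0, 0, 0, 0, 0, 1, 0]),
    (.cnj 0 [6, 5] [5, 6, 7], [0, 0, 0, 0, 0, 0, 0, 1, 0, 0, 0, 0, 0, 0, 0, 0, 0, 0, 0, 0, 0, 0, 0, 0, 0, 0, 0, 1, 0, 1, 0, 0, 0, 0, 0, 0, 0, 0, 0, 0, 0, 0, 0, 1]),
    (.cnj 8 [10, 10] [], [1, 1, 0, 1, 1, 0, 0, 0, 1, 0, 1, 0, 0, 0, 0, 0, 0, 0, 0, 0, 0, 0, 0, 0, 0, 0, 1, 0, 0, 0, 0, 0, 0, 0, 0, 0, 0, 0, 0, 0, 0, 0, 0, 0, 0, 0, 0]),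
    (.cnj 8 [10, 8] [8, 10], [0, 0, 0, 0, 0, 0, 0, 0, 0, 0, 0, 0, 0, 0, 1, 0, 0, 0, 0, 0, 1, 0, 0, 0, 0, 0, 0, 0, 0, 0, 0, 0, 1, 0, 0, 0, 0, 0, 0, 0, 0, 0, 0, 0, 0, 0, 0])]
  lam := [[], [0, 0, 0, 0, 0, 0, 0, 0, 0, 0, 0, 0, 1], [0, 1, 0, 0, 0, 0, 0, 0, 0, 0, 0, 0, 0, 1], [0, 1], [0, 1, 0, 0, 0, 0, 0, 0, 0, 0, 0, 0, 0, 0, 0, 0, 0, 0, 0, 1], [], [], [0, 0, 0, 0, 0, 1]]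
  combos := [[(0, 1), (1, 1), (6, 1), (7, 1), (9, 1), (11, 1), (16, 1), (31, 1)],
    [],
    [(7, 1), (10, 1), (11, 1), (16, 1), (25, 1), (29, 1)],
    [(3, 1), (4, 1), (9, 1)],
    [(4, 1), (5, 1), (6, 1), (7, 1), (11, 1), (16, 1)],
    [],
    [(4, 1), (6, 1), (8, 1), (11, 1), (12, 1), (13, 1), (14, 1), (27, 1), (30, 1)],
    [(12, 1), (13, 1), (14, 1)],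
    [(1, 1), (4, 1), (9, 1)],
    [(0, 1), (2, 1), (3, 1), (4, 1), (7, 1), (9, 1), (10, 1), (11, 1), (16, 1), (25, 1), (29, 1)],
    [(0, 1), (3, 1), (4, 1), (9, 1)],
    [(0, 1), (4, 1), (5, 1), (9, 1), (11, 1), (15, 1), (26, 1), (29, 1)],
    [],
    [],
    [(8, 1), (19, 1), (24, 1), (32, 1)],
    [(3, 1), (4, 1), (7, 1), (10, 1), (11, 1), (16, 1), (26, 1), (29, 1)],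
    [(3, 1)],
    [(3, 1), (4, 1), (6, 1), (9, 1), (16, 1)],
    [(3, 1), (4, 1), (8, 1), (9, 1), (17, 1), (19, 1), (24, 1), (32, 1)],
    [],
    [(19, 1)],
    [(9, 1)],
    [(5, 1), (7, 1), (9, 1), (10, 1), (11, 1), (16, 1)],
    [(3, 1), (4, 1), (5, 1), (6, 1), (7, 1), (8, 1), (10, 1), (11, 1), (16, 1), (18, 1), (19, 1), (24, 1), (26, 1), (29, 1), (32, 1)],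
    [(3, 1), (4, 1), (7, 1), (8, 1), (9, 1), (10, 1), (16, 1), (19, 1), (20, 1), (24, 1), (25, 1), (29, 1), (32, 1)],
    [(8, 1), (21, 1)],
    [(5, 1)],
    [(4, 1), (6, 1), (9, 1)],
    [(3, 1), (4, 1), (11, 1)],
    [(8, 1)],
    [(3, 1), (5, 1), (6, 1), (9, 1), (11, 1), (19, 1), (22, 1)],
    [(4, 1), (6, 1), (7, 1), (9, 1), (16, 1), (19, 1), (23, 1)],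
    [(8, 1), (24, 1)],
    [(9, 1), (11, 1), (13, 1), (14, 1), (28, 1), (30, 1)],
    [(12, 1)],
    [(14, 1)]]

/-- words for the elements of the certificate at `3` -/
def words3 : List (List ℕ) := [
  [2, 0, 2, 3, 2, 0],
  [2, 0, 2, 1, 0, 3, 2, 0, 1, 2, 3, 1, 2, 3, 0, 0, 3, 0, 2, 0, 1, 3, 2, 1, 0, 3, 0, 2, 0, 1, 3, 2, 1],
  [2, 0, 2, 0, 1, 3, 1, 0, 2, 0],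
  [2]]

/-- a conjugator at `3` -/
def conj3_0 : Tri :=
    ⟨⟨⟨0, 0, 0, 0, 0, 0, 0, 0⟩, ⟨0, 0, 4, 0, 0, 0, 0, 0⟩, ⟨0, 0, 0, 0, 0, 0, 0, 0⟩⟩,
      ⟨⟨0, 0, -4, 0, 0, 0, 0, 0⟩, ⟨0, 0, 0, 0, 0, 0, 0, 0⟩, ⟨0, 0, 0, 0, 0, 0, 0, 0⟩⟩,
      ⟨⟨0, 0, 0, 0, 0, 0, 0, 0⟩, ⟨0, 0, 0, 0, 0, 0, 0, 0⟩, ⟨4, 0, 0, 0, 0, 0, 0, 0⟩⟩⟩

/-- certificate at `3` -/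
def cert3 : Cert Tri where
  n := 3
  σ := [⟨⟨⟨0, 0, 0, 0, 0, 0, 0, 0⟩, ⟨0, 0, 0, 0, 0, 0, 0, 0⟩, ⟨0, 0, 0, 0, 0, 0, 4, 0⟩⟩,
      ⟨⟨0, 0, -4, 0, 0, 0, 0, 0⟩, ⟨0, 0, 0, 0, 0, 0, 0, 0⟩, ⟨0, 0, 0, 0, 0, 0, 0, 0⟩⟩,
      ⟨⟨0, 0, 0, 0, 0, 0, 0, 0⟩, ⟨0, 0, 0, 0, -4, 0, 0, 0⟩, ⟨0, 0, 0, 0, 0, 0, 0, 0⟩⟩⟩,
    ⟨⟨⟨-2, 0, -1, 1, 0, 1, -1, 0⟩, ⟨-1, 1, 0, 0, -1, 0, 0, 1⟩, ⟨1, 0, 0, -1, -1, 1, 0, 0⟩⟩,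
      ⟨⟨1, -1, 0, 0, -1, 0, 0, 1⟩, ⟨-2, 0, -1, 1, 0, -1, 1, 0⟩, ⟨0, -1, -1, 0, 0, 0, 1, -1⟩⟩,
      ⟨⟨-1, 0, 0, -1, -1, 1, 0, 0⟩, ⟨0, 1, -1, 0, 0, 0, 1, -1⟩, ⟨-2, 0, 1, -1, 0, -1, -1, 0⟩⟩⟩,
    ⟨⟨⟨0, 0, 0, 0, 0, 0, 2, 0⟩, ⟨0, 0, 2, 0, 0, 0, 0, 0⟩, ⟨-1, 0, 1, -2, -1, 0, -1, 0⟩⟩,
      ⟨⟨0, 0, -2, 0, 0, 0, 0, 0⟩, ⟨0, 0, 0, 0, 0, 0, 2, 0⟩, ⟨1, 0, -1, 0, -1, 0, -1, 2⟩⟩,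
      ⟨⟨1, 0, -1, 0, -1, 2, 1, 0⟩, ⟨1, -2, -1, 0, 1, 0, -1, 0⟩, ⟨0, 0, 0, 0, 0, 0, 0, 0⟩⟩⟩]
  rules := [([0, 0, 0], []),
    ([1, 1, 1], []),
    ([2, 2, 2], []),
    ([1, 0], [0, 1]),
    ([2, 0], [0, 1, 1, 2]),
    ([2, 1], [1, 2])]
  conjs := [(conj3_0, [0], [0, 0]),
    (conj3_0, [1], [1]),
    (conj3_0, [2], [2, 2])]
  rows := [(.ovl [2] 0 [], [0, 2, 0, 0, 0]),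
    (.cnj 0 [0, 0, 0] [], [1, 0, 0, 0, 0, 0, 0]),
    (.cnj 0 [2, 2, 2] [], [0, 0, 1, 0, 0, 0, 0, 0, 0]),
    (.cnj 0 [1, 0] [0, 1], [0, 0, 0, 1, 0, 0, 0, 0]),
    (.cnj 0 [2, 1] [1, 2], [0, 0, 0, 0, 0, 1, 0, 0, 0])]
  lam := [[], [0, 0, 0, 0, 2], []]
  combos := [[(1, 2)],
    [(0, 1)],
    [(2, 2)],
    [(3, 2)],
    [],
    [(4, 2)]]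

/-- words for the elements of the certificate at `5` -/
def words5 : List (List ℕ) := [
  [0, 1, 2, 0, 2, 3, 1, 2, 1, 0, 3, 1, 2, 0, 1, 2],
  [3, 0, 1, 3, 0, 2, 1, 3, 2, 0, 3, 2, 1, 3, 2],
  [3, 0, 2, 1, 0, 2],
  [0, 1, 2, 0, 2, 1, 0]]

/-- a conjugator at `5` -/
def conj5_0 : Tri :=
    ⟨⟨⟨1, 0, 0, -1, -1, 1, 0, 0⟩, ⟨0, 1, -1, 0, 0, 0, -1, -1⟩, ⟨-1, 0, 2, -1, -1, 1, 0, 0⟩⟩,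
      ⟨⟨-1, 1, 0, 0, -1, 2, 0, 1⟩, ⟨0, 0, -1, 1, 0, -1, 1, 0⟩, ⟨1, -1, 0, 0, 1, 0, 0, 1⟩⟩,
      ⟨⟨-1, 0, 0, 1, 1, -1, 0, 0⟩, ⟨-2, 1, -1, 0, 0, 0, 1, -1⟩, ⟨-1, 0, 0, -1, 1, 1, 0, 0⟩⟩⟩

/-- a conjugator at `5` -/
def conj5_1 : Tri :=
    ⟨⟨⟨2, 0, 0, 0, 0, 0, 0, 0⟩, ⟨0, 1, 0, 1, 0, -1, 0, 1⟩, ⟨1, -1, -1, 1, -1, 1, 1, -1⟩⟩,
      ⟨⟨0, 1, 0, -1, 0, 1, 0, -1⟩, ⟨2, -2, 0, 0, 0, 0, 0, 0⟩, ⟨1, 0, -1, 0, 1, 0, 1, 0⟩⟩,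
      ⟨⟨1, -1, 1, -1, 1, -1, -1, 1⟩, ⟨1, 0, 1, 0, -1, 0, -1, 0⟩, ⟨0, 2, 0, 0, 0, 0, 0, 0⟩⟩⟩

/-- certificate at `5` -/
def cert5 : Cert Tri where
  n := 2
  σ := [⟨⟨⟨-2, 0, 1, 0, -1, 1, 0, 1⟩, ⟨0, -1, -1, 1, 1, 0, 0, 0⟩, ⟨1, 0, 0, 0, 0, 1, 1, -1⟩⟩,
      ⟨⟨0, 0, -1, 0, -1, 1, 0, 1⟩, ⟨0, -1, -1, 1, -1, 0, -2, 0⟩, ⟨-1, 0, 0, 0, 0, -1, -1, 1⟩⟩,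
      ⟨⟨1, -1, 0, 1, 0, 0, 1, 0⟩, ⟨1, 0, 0, 0, 0, 1, -1, 1⟩, ⟨0, -1, 1, -1, -1, 0, 2, 0⟩⟩⟩,
    ⟨⟨⟨2, -2, 0, 0, 0, 0, 0, 0⟩, ⟨-1, 0, 1, 0, -1, 0, -1, 0⟩, ⟨0, 1, 0, -1, 0, 1, 0, -1⟩⟩,
      ⟨⟨0, -1, 0, -1, 0, -1, 0, 1⟩, ⟨1, -1, 1, -1, 1, -1, 1, -1⟩, ⟨0, 0, 0, 0, -2, 0, 0, 0⟩⟩,
      ⟨⟨-1, 0, 1, 0, -1, 0, 1, 0⟩, ⟨0, 0, 0, 0, 0, 2, 0, 0⟩, ⟨1, -1, 1, -1, -1, 1, 1, -1⟩⟩⟩]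
  rules := [([0, 0, 0, 0, 0], []),
    ([1, 1, 1, 1, 1], []),
    ([1, 0], [0, 1])]
  conjs := [(conj5_0, [0], [0, 0, 0, 1, 1, 1, 1]),
    (conj5_0, [1], [0, 0, 1, 1, 1]),
    (conj5_1, [0], [0, 0, 1]),
    (conj5_1, [1], [0, 0, 1, 1, 1])]
  rows := [(.cnj 0 [0, 0, 0, 0, 0] [], [2, 4, 0, 0]),
    (.cnj 0 [1, 1, 1, 1, 1] [], [2, 2, 0, 0, 0]),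
    (.cnj 2 [3, 2] [2, 3], [0, 0, 3, 0, 0, 0, 0])]
  lam := [[], []]
  combos := [[(0, 3), (1, 4)],
    [(0, 2), (1, 3)],
    [(2, 3)]]

end CfsgLib.KnownB.J2Mult
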