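import Cfsg.Agent.Lib.KnownB.J2Mult.Certs
import Cfsg.Agent.Lib.KnownB.Mult.Reduce
import Cfsg.Agent.Lib.Schur.Lift

/-!
`2·J₂` has trivial multiplier, and is a stem extension of `J₂` with kernel of order two.
-/

set_option autoImplicit false
set_option maxRecDepth 100000

namespace CfsgLib.KnownB.J2Mult

open CfsgLib.J2 CfsgLib.KnownB.Mult Cfsg.Spor
open scoped commutatorElement

theorem trivial_multiplier : Cfsg.HasCyclicSchurMultiplier twoJ2 1 := by
  haveI : Finite twoJ2 := Nat.finite_of_card_ne_zero (by rw [card_twoJ2]; norm_num)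
  refine hasTrivialMultiplier_of_primeCond fun p hp => ?_
  by_cases h2 : p = 2
  · subst h2
    exact Cert.primeCond cert2_valid (m := 4725)
      (card_twoJ2.trans (by norm_num [cert2])) (by norm_num)
  by_cases h3 : p = 3
  · subst h3
    exact Cert.primeCond cert3_valid (m := 44800)
      (card_twoJ2.trans (by norm_num [cert3])) (by norm_num)
  by_cases h5 : p = 5
  · subst h5
    exact Cert.primeCond cert5_valid (m := 48384)
      (card_twoJ2.trans (by norm_num [cert5])) (by norm_num)
  refine primeCond_of_cyclic default (isCyclic_sylow (p := p) ?_ default)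
  intro hd
  rw [card_twoJ2, show (1209600 : ℕ) = 2 ^ 8 * 3 ^ 3 * 5 ^ 2 * 7 by norm_num] at hd
  have hc : ∀ q k : ℕ, q.Prime → p ≠ q → Nat.Coprime (p ^ 2) (q ^ k) := fun q k hq hne =>
    Nat.Coprime.pow 2 k ((Nat.coprime_primes hp.out hq).2 hne)
  have h7 : p ^ 2 ∣ 7 := (((hc 2 8 Nat.prime_two h2).mul_right
    (hc 3 3 Nat.prime_three h3)).mul_right (hc 5 2 Nat.prime_five h5)).dvd_of_dvd_mul_left hd
  have hle : p ^ 2 ≤ 7 := Nat.le_of_dvd (by norm_num) h7
  have := hp.out.two_le
  have : p ≤ 2 := by nlinarith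
  omega

theorem negOne_mem_commutator : (⟨negOne, negOne_mem⟩ : twoJ2) ∈ commutator twoJ2 := by
  obtain ⟨a, ha⟩ := exists_evT commPair.1
  obtain ⟨b, hb⟩ := exists_evT commPair.2
  have e := (eqT_iff (ha.mul hb) (repT_negOne.mul (hb.mul ha))).1 commPair_check
  have e' : (⟨negOne, negOne_mem⟩ : twoJ2) = ⁅a, b⁆ := by
    rw [commutatorElement_def, e]
    group
  rw [e']
  exact Subgroup.commutator_mem_commutator (Subgroup.mem_top _) (Subgroup.mem_top _)

theorem isStem_mk : Cfsg.IsStemExtension (QuotientGroup.mk' (Subgroup.center twoJ2)) := by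
  refine ⟨QuotientGroup.mk'_surjective _, ?_, ?_⟩
  · rw [QuotientGroup.ker_mk']
  · rw [QuotientGroup.ker_mk']
    intro g hg
    rcases center_cases hg with e | e
    · have : g = 1 := Subtype.ext e
      rw [this]; exact one_mem _
    · have : g = ⟨negOne, negOne_mem⟩ := Subtype.ext e
      rw [this]; exact negOne_mem_commutator

theorem hasCyclicSchurMultiplier : Cfsg.HasCyclicSchurMultiplier Cfsg.Spor.J2 2 := by
  haveI : Finite twoJ2 := Nat.finite_of_card_ne_zero (by rw [card_twoJ2]; norm_num)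
  obtain ⟨e⟩ := CfsgLib.Schur.mult_equiv_ker_of_trivial _ isStem_mk trivial_multiplier
  have : Fact (Nat.Prime 2) := ⟨by norm_num⟩
  have hk : Nat.card (QuotientGroup.mk' (Subgroup.center twoJ2)).ker = 2 := by
    rw [QuotientGroup.ker_mk', card_center]
  exact CfsgLib.Schur.hasSchurMultiplier_iff.2 ⟨(mulEquivOfPrimeCardEq (p := 2)
    (by simp [Nat.card_zmod]) hk).trans e.symm⟩

end CfsgLib.KnownB.J2Mult
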